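import Cfsg.Agent.H672.Lin
import Cfsg.Agent.H686.CharKit
import Cfsg.Agent.CharDeep.FrobKernel
import Cfsg.Agent.OddOrderCharacters.PF9.CliffGen
import Cfsg.Agent.FastGrp
import Cfsg.Agent.Prune
set_option linter.all false
prune_inst 0x7f00000000000000000000000000000000000000000000000000000000000000000000000000000000000000000000000000000000000000000000000000000000000000000000000000000000000000003ffffffffffffffffffff7ffffffbeffbdf7ffffff
open scoped Cfsg.Agent.FastGrp

-- part: H211/Hup/Over
section
/-!
# Characters over a linear character of a normal subgroup (S4766)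

* `card_ov_le`: there are at most `k(T / N)` irreducible characters over an invariant linear character of `N`;
* `sum_sq_ov`: the sum of the squares of their degrees is `|T : N|`;
* `nc_zero`: if all degrees of `P` satisfy `d² < |P : V|`, then `|P : T| < k(T / V)` for every inertia group `T` of a
  linear character of `V`.
-/

set_option autoImplicit false
set_option linter.unusedSectionVars false
set_option linter.style.haveILetI false

universe u v

namespace Cfsg.Agent.H211.Hup

open Cfsg Cfsg.Agent.Characters.Core Cfsg.Agent.H686.CharKit Cfsg.Agent.H672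
open scoped ComplexConjugate

section Abs

variable {T : Type u} [Group T] [Finite T]

/-- `χ` multiplies by `l` along `N` -/
def Ov (N : Subgroup T) (l : N →* ℂˣ) (χ : T → ℂ) : Prop := ∀ (v : N) (g : T), χ ((v : T) * g) = (l v : ℂ) * χ g

theorem card_ov_le (N : Subgroup T) [N.Normal] (l : N →* ℂˣ) :
    Nat.card {χ : IrrCharacter T // Ov N l (χ : T → ℂ)} ≤ Nat.card (ConjClasses (T ⧸ N)) := by
  classical
  have := finite_irr (G := T)
  have := Fintype.ofFinite {χ : IrrCharacter T // Ov N l (χ : T → ℂ)}
  have := Fintype.ofFinite (ConjClasses (T ⧸ N))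
  have hrep : ∀ c : ConjClasses (T ⧸ N), ∃ g : T, ConjClasses.mk (QuotientGroup.mk g : T ⧸ N) = c := by
    intro c
    induction c using Quotient.inductionOn with
    | h q =>
      obtain ⟨g, rfl⟩ := QuotientGroup.mk_surjective q
      exact ⟨g, rfl⟩
  choose r hr using hrep
  have hind : LinearIndependent ℂ (fun (χ : {χ : IrrCharacter T // Ov N l (χ : T → ℂ)}) (c : ConjClasses (T ⧸ N)) =>
      ((χ.1 : IrrCharacter T) : T → ℂ) (r c)) := by
    rw [Fintype.linearIndependent_iff]
    intro a ha
    have hb := (irrBasis T).linearIndependent.comp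
      (fun χ : {χ : IrrCharacter T // Ov N l (χ : T → ℂ)} => χ.1) Subtype.val_injective
    rw [Fintype.linearIndependent_iff] at hb
    apply hb a
    funext c
    obtain ⟨g, rfl⟩ := ConjClasses.exists_rep c
    simp only [Function.comp, Finset.sum_apply, Pi.smul_apply, smul_eq_mul, Pi.zero_apply]
    have h1 := congrFun ha (ConjClasses.mk (QuotientGroup.mk g : T ⧸ N))
    simp only [Finset.sum_apply, Pi.smul_apply, smul_eq_mul, Pi.zero_apply] at h1
    -- `g` is conjugate to an element of `N * r c`
    have h2 := hr (ConjClasses.mk (QuotientGroup.mk g : T ⧸ N))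
    rw [ConjClasses.mk_eq_mk_iff_isConj, isConj_iff] at h2
    obtain ⟨q, hq⟩ := h2
    obtain ⟨h, rfl⟩ := QuotientGroup.mk_surjective q
    set x := r (ConjClasses.mk (QuotientGroup.mk g : T ⧸ N)) with hx
    have h3 : (QuotientGroup.mk (h * x * h⁻¹) : T ⧸ N) = QuotientGroup.mk g := by
      rw [← hq]; rfl
    have h4 : g * (h * x * h⁻¹)⁻¹ ∈ N := by
      have h5 := QuotientGroup.eq.1 h3
      have h6 := (inferInstance : N.Normal).conj_mem _ h5 (h * x * h⁻¹)
      have e : h * x * h⁻¹ * ((h * x * h⁻¹)⁻¹ * g) * (h * x * h⁻¹)⁻¹ = g * (h * x * h⁻¹)⁻¹ := by group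
      rwa [e] at h6
    have h7 : ∀ χ : {χ : IrrCharacter T // Ov N l (χ : T → ℂ)}, ((χ.1 : IrrCharacter T) : T → ℂ) g =
        (l ⟨_, h4⟩ : ℂ) * ((χ.1 : IrrCharacter T) : T → ℂ) x := by
      intro χ
      have h8 := χ.2 ⟨_, h4⟩ (h * x * h⁻¹)
      simp only [inv_mul_cancel_right] at h8
      rw [h8]
      congr 1
      exact isCharacter_isClassFunction (isIrr_isCharacter χ.1.2) x h
    have h9 : ∀ χ : {χ : IrrCharacter T // Ov N l (χ : T → ℂ)}, a χ * (irrBasis T) χ.1 (ConjClasses.mk g) =
        (l ⟨_, h4⟩ : ℂ) * (a χ * ((χ.1 : IrrCharacter T) : T → ℂ) x) := by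
      intro χ
      rw [irrBasis_apply, h7]; ring
    rw [Finset.sum_congr rfl fun χ _ => h9 χ, ← Finset.mul_sum, h1, mul_zero]
  have h := hind.fintype_card_le_finrank
  rw [Module.finrank_fintype_fun_eq_card] at h
  rwa [Nat.card_eq_fintype_card, Nat.card_eq_fintype_card]

theorem sum_sq_ov (N : Subgroup T) [N.Normal] (l : N →* ℂˣ) (hl : ∀ (t : T) (v : N), l (MulAut.conjNormal t v) = l v)
    [Fintype (IrrCharacter T)] [DecidablePred fun χ : IrrCharacter T => Ov N l (χ : T → ℂ)] :
    ∑ χ ∈ (Finset.univ.filter fun χ : IrrCharacter T => Ov N l (χ : T → ℂ)), charDegree (χ : T → ℂ) ^ 2 = N.index := by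
  classical
  have := Fintype.ofFinite N
  have := Fintype.ofFinite T
  -- the inner product with `l`
  have hov : ∀ χ : IrrCharacter T, Ov N l (χ : T → ℂ) → classInner (fun n : N => (χ : T → ℂ) n) (lf l) = (χ : T → ℂ) 1 := by
    intro χ h
    have h1 : (fun n : N => (χ : T → ℂ) n) = ((χ : T → ℂ) 1) • lf l := by
      funext n
      have := h n 1
      rw [mul_one] at this
      rw [this, Pi.smul_apply, smul_eq_mul, lf_apply, mul_comm]
    rw [h1, classInner_smul_left, classInner_irr_self (isIrr_lf l), mul_one]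
  have hnov : ∀ χ : IrrCharacter T, ¬ Ov N l (χ : T → ℂ) → classInner (fun n : N => (χ : T → ℂ) n) (lf l) = 0 := by
    intro χ h
    by_contra h0
    apply h
    have key := CharDeep.CliffordCorr.restrict_eq_smul_of_invariant N χ.2 (isIrr_lf l) (fun g => by
      funext v; exact congrArg Units.val (hl g v)) h0
    have h1 : ∀ v : N, (χ : T → ℂ) v = (χ : T → ℂ) 1 * (l v : ℂ) := by
      intro v
      have e1 := congrFun key v
      have e2 := congrFun key 1
      simp only [Pi.smul_apply, smul_eq_mul, lf_apply, map_one, Units.val_one, mul_one] at e1 e2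
      rw [OneMemClass.coe_one] at e2
      rw [e1, e2]
    obtain ⟨d, ρ, -, hρ⟩ := χ.2
    intro v g
    let σ : Representation ℂ N (Fin d → ℂ) :=
      { toFun := fun n => ((l n)⁻¹ : ℂˣ).val • ρ (n : T)
        map_one' := by simp only [_root_.map_one, _root_.inv_one, _root_.Units.val_one, _root_.OneMemClass.coe_one, _root_.one_smul]
        map_mul' := fun a b => by
          rw [map_mul, mul_inv, Units.val_mul, Subgroup.coe_mul, map_mul]
          rw [smul_mul_smul_comm] }
    have hσ : ∀ n, σ n = ((l n)⁻¹ : ℂˣ).val • ρ (n : T) := fun _ => rfl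
    have h2 : σ v = LinearMap.id := by
      rw [← Cfsg.Agent.Characters.Values.character_eq_finrank_iff]
      have h3 : σ.character v = ((l v)⁻¹ : ℂˣ).val * ρ.character (v : T) := by
        show LinearMap.trace ℂ _ (σ v) = _
        rw [hσ, map_smul, smul_eq_mul]
        rfl
      rw [h3, hρ, h1 v, ← hρ, Representation.char_one]
      rw [mul_comm, mul_assoc, ← Units.val_mul, mul_inv_cancel, Units.val_one, mul_one]
    have h4 : ρ (v : T) = (l v : ℂ) • LinearMap.id := by
      rw [← h2, hσ, smul_smul, ← Units.val_mul, mul_inv_cancel, Units.val_one, one_smul]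
    rw [← hρ]
    show LinearMap.trace ℂ _ (ρ (v * g)) = _ * LinearMap.trace ℂ _ (ρ g)
    rw [map_mul, h4, ← smul_eq_mul (a := (l v : ℂ)), ← map_smul]
    congr 1
  have hreg : ∀ v : N, ∑ χ : IrrCharacter T, (χ : T → ℂ) 1 * (χ : T → ℂ) v = if v = 1 then (Nat.card T : ℂ) else 0 := by
    intro v
    rw [CharDeep.FrobKernel.sum_degree_mul_apply]
    congr 1
    simp
  have key : ∑ χ : IrrCharacter T, (χ : T → ℂ) 1 * classInner (fun n : N => (χ : T → ℂ) n) (lf l) = (N.index : ℂ) := by
    have e1 : ∀ χ : IrrCharacter T, (χ : T → ℂ) 1 * classInner (fun n : N => (χ : T → ℂ) n) (lf l) =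
        (Nat.card N : ℂ)⁻¹ * ∑ v : N, (χ : T → ℂ) 1 * (χ : T → ℂ) v * conj (lf l v) := by
      intro χ
      rw [classInner_def, Finset.mul_sum, Finset.mul_sum, Finset.mul_sum]
      exact Finset.sum_congr rfl fun v _ => by ring
    rw [Finset.sum_congr rfl fun χ _ => e1 χ, ← Finset.mul_sum, Finset.sum_comm]
    have e2 : ∀ v : N, ∑ χ : IrrCharacter T, (χ : T → ℂ) 1 * (χ : T → ℂ) v * conj (lf l v) =
        if v = 1 then (Nat.card T : ℂ) else 0 := by
      intro v
      rw [← Finset.sum_mul, hreg]
      split_ifs with h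
      · rw [h, lf_apply, map_one]; simp only [_root_.Nat.card_eq_fintype_card, _root_.Units.val_one, _root_.map_one, _root_.mul_one]
      · rw [zero_mul]
    rw [Finset.sum_congr rfl fun v _ => e2 v, Finset.sum_ite_eq' Finset.univ (1 : N)]
    rw [if_pos (Finset.mem_univ _), ← Subgroup.card_mul_index N]
    have : (Nat.card N : ℂ) ≠ 0 := Nat.cast_ne_zero.2 Nat.card_pos.ne'
    push_cast
    field_simp
  have key2 : ((∑ χ ∈ (Finset.univ.filter fun χ : IrrCharacter T => Ov N l (χ : T → ℂ)), charDegree (χ : T → ℂ) ^ 2 : ℕ) : ℂ) =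
      (N.index : ℂ) := by
    rw [← key, Finset.sum_filter]
    push_cast
    refine Finset.sum_congr rfl fun χ _ => ?_
    split_ifs with h
    · rw [hov χ h, charDegree_irr, sq]
    · rw [hnov χ h, mul_zero]
  exact_mod_cast key2

end Abs

section Nc

variable {P : Type u} [Group P] [Finite P]

open Cfsg.Agent.OddOrderCharacters.PF9.CliffGen (irr_ind resTo)
open Cfsg.Agent.OddOrderCharacters.NormalInduced (conjFn)

/-- **NC0**: small degrees force large inertia groups. -/
theorem nc_zero (V : Subgroup P) [hV : V.Normal] (l : V →* ℂˣ) (T : Subgroup P)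
    (hT : ∀ g, g ∈ T ↔ ∀ v : V, l (MulAut.conjNormal g v) = l v) (hVT : V ≤ T)
    (hB : ∀ χ : IrrCharacter P, charDegree (χ : P → ℂ) ^ 2 < V.index) :
    T.index < Nat.card (ConjClasses (T ⧸ V.subgroupOf T)) := by
  classical
  have := Fintype.ofFinite P
  have := Fintype.ofFinite V
  have := Fintype.ofFinite T
  have := finite_irr (G := T)
  have := Fintype.ofFinite (IrrCharacter T)
  let e : V.subgroupOf T ≃* V := Subgroup.subgroupOfEquivOfLe hVT
  let l' : V.subgroupOf T →* ℂˣ := l.comp e.toMonoidHom
  have hl' : ∀ x : V.subgroupOf T, l' x = l (e x) := fun _ => rfl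
  have he : ∀ x : V.subgroupOf T, ((e x : V) : P) = ((x : T) : P) := fun _ => rfl
  have hinv : ∀ (t : T) (v : V.subgroupOf T), l' (MulAut.conjNormal t v) = l' v := by
    intro t v
    rw [hl', hl', ← (hT t).1 t.2 (e v)]
    congr 1
  have hsum := sum_sq_ov (V.subgroupOf T) l' hinv
  set S := Finset.univ.filter fun χ : IrrCharacter T => Ov (V.subgroupOf T) l' (χ : T → ℂ) with hS
  have hidx : (V.subgroupOf T).index * T.index = V.index := Subgroup.relIndex_mul_index hVT
  have hT0 : 0 < T.index := Nat.pos_of_ne_zero Subgroup.index_ne_zero_of_finite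
  have hVT0 : 0 < (V.subgroupOf T).index := Nat.pos_of_ne_zero Subgroup.index_ne_zero_of_finite
  have hdeg : ∀ χ ∈ S, (T.index * charDegree (χ : T → ℂ)) ^ 2 < V.index := by
    intro χ hχ
    have hov : Ov (V.subgroupOf T) l' (χ : T → ℂ) := (Finset.mem_filter.1 hχ).2
    have h1 : IsIrrCharacter P (indFun T (χ : T → ℂ)) := by
      refine irr_ind (N := V) (θ := lf l) (isIrr_lf l) (fun g => ?_) hVT χ.2 ?_
      · rw [hT, funext_iff]
        refine forall_congr' fun v => ?_
        exact ⟨fun h => congrArg Units.val h, fun h => Units.ext h⟩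
      · have h2 : resTo hVT (χ : T → ℂ) = ((χ : T → ℂ) 1) • lf l := by
          funext v
          have h3 := hov (e.symm v) 1
          rw [mul_one, hl', MulEquiv.apply_symm_apply] at h3
          have h4 : ((e.symm v : V.subgroupOf T) : T) = ⟨(v : P), hVT v.2⟩ := by
            apply Subtype.ext
            rw [← he, MulEquiv.apply_symm_apply]
          rw [h4] at h3
          show (χ : T → ℂ) ⟨(v : P), hVT v.2⟩ = _
          rw [h3, Pi.smul_apply, smul_eq_mul, lf_apply, mul_comm]
        rw [h2, classInner_smul_left, classInner_irr_self (isIrr_lf l), mul_one]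
        exact isIrr_apply_one_ne_zero χ.2
    have h5 : charDegree (indFun T (χ : T → ℂ)) = T.index * charDegree (χ : T → ℂ) := by
      apply charDegree_of_eq
      rw [OddOrderCharacters.InertiaAbelian.indFun_one, ← charDegree_irr χ]
      push_cast; rfl
    have h6 := hB ⟨_, h1⟩
    rwa [h5] at h6
  have hne : S.Nonempty := by
    rw [Finset.nonempty_iff_ne_empty]
    intro h0
    rw [h0, Finset.sum_empty] at hsum
    omega
  have h7 : ∑ χ ∈ S, (T.index * charDegree (χ : T → ℂ)) ^ 2 = T.index ^ 2 * (V.subgroupOf T).index := by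
    rw [← hsum, Finset.mul_sum]
    exact Finset.sum_congr rfl fun χ _ => by ring
  have h8 := Finset.sum_lt_sum_of_nonempty hne hdeg
  rw [h7, Finset.sum_const, smul_eq_mul, ← hidx] at h8
  have h9 : T.index < S.card := by
    have h10 : (T.index * (V.subgroupOf T).index) * T.index < (T.index * (V.subgroupOf T).index) * S.card := by
      linarith only [h8]
    exact Nat.lt_of_mul_lt_mul_left h10
  refine h9.trans_le ?_
  have h11 := card_ov_le (V.subgroupOf T) l'
  rwa [Nat.card_eq_fintype_card, Fintype.card_subtype] at h11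

end Nc

end Cfsg.Agent.H211.Hup
end

-- part: H211/Hup/NcFrame
section
/-!
# Noncentral abelian normal subgroups below `A_n` (S4766): the frame

`nc_frame`: a perfect-like extension `P / V = A_n`, `V = [V, P]` abelian, with all degrees `d² < |A_n|`: the dual of `V`
is an `A_n`-module all of whose nontrivial elements have a stabiliser `T < A_n` with `|A_n| < |T| k(T)`.
-/

set_option autoImplicit false
set_option linter.unusedSectionVars false
set_option linter.style.haveILetI false

universe u v

namespace Cfsg.Agent.H211.Hup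

open Cfsg Cfsg.Agent.Characters.Core Cfsg.Agent.H686.CharKit Cfsg.Agent.H672
open Equiv

theorem card_conj_congr {G : Type u} {H : Type v} [Group G] [Group H] (e : G ≃* H) :
    Nat.card (ConjClasses G) = Nat.card (ConjClasses H) := by
  refine Nat.card_congr ⟨ConjClasses.map e.toMonoidHom, ConjClasses.map e.symm.toMonoidHom, ?_, ?_⟩
  · intro c
    obtain ⟨g, rfl⟩ := ConjClasses.exists_rep c
    exact congrArg ConjClasses.mk (e.symm_apply_apply g)
  · intro c
    obtain ⟨g, rfl⟩ := ConjClasses.exists_rep c
    exact congrArg ConjClasses.mk (e.apply_symm_apply g)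

section Dual

variable {P : Type u} [Group P] (V : Subgroup P) [hV : V.Normal]

/-- the action on the dual of a normal subgroup -/
def dual : P →* MulAut (V →* ℂˣ) where
  toFun g :=
    { toFun := fun l => l.comp (MulAut.conjNormal g⁻¹ : MulAut V).toMonoidHom
      invFun := fun l => l.comp (MulAut.conjNormal g : MulAut V).toMonoidHom
      left_inv := fun l => by
        ext v
        simp only [MonoidHom.comp_apply, MulEquiv.coe_toMonoidHom]
        congr 1
        rw [← MulAut.mul_apply, ← map_mul, inv_mul_cancel, map_one]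
        rfl
      right_inv := fun l => by
        ext v
        simp only [MonoidHom.comp_apply, MulEquiv.coe_toMonoidHom]
        congr 1
        rw [← MulAut.mul_apply, ← map_mul, mul_inv_cancel, map_one]
        rfl
      map_mul' := fun a b => by
        ext v
        rfl }
  map_one' := by
    ext l v
    show (l (MulAut.conjNormal (1 : P)⁻¹ v) : ℂ) = l v
    rw [inv_one, map_one]
    rfl
  map_mul' g h := by
    ext l v
    show (l (MulAut.conjNormal (g * h)⁻¹ v) : ℂ) = l (MulAut.conjNormal h⁻¹ (MulAut.conjNormal g⁻¹ v))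
    rw [mul_inv_rev, map_mul]
    rfl

theorem dual_apply (g : P) (l : V →* ℂˣ) (v : V) : dual V g l v = l (MulAut.conjNormal g⁻¹ v) := rfl

theorem dual_eq_iff (g : P) (l : V →* ℂˣ) : dual V g l = l ↔ ∀ v, l (MulAut.conjNormal g v) = l v := by
  constructor
  · intro h v
    have h1 := DFunLike.congr_fun h (MulAut.conjNormal g v)
    rw [dual_apply, ← MulAut.mul_apply, ← map_mul, inv_mul_cancel, map_one, MulAut.one_apply] at h1
    exact h1.symm
  · intro h
    ext v
    rw [dual_apply, ← h (MulAut.conjNormal g⁻¹ v), ← MulAut.mul_apply, ← map_mul, mul_inv_cancel, map_one,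
      MulAut.one_apply]

end Dual

theorem nc_frame {n : ℕ} {P : Type u} [Group P] [Finite P]
    (hB : ∀ χ : IrrCharacter P, charDegree (χ : P → ℂ) ^ 2 < Nat.card (alternatingGroup (Fin n)))
    (V : Subgroup P) [hV : V.Normal] (hab : ∀ a ∈ V, ∀ b ∈ V, a * b = b * a) (hVP : ⁅V, (⊤ : Subgroup P)⁆ = V)
    (f : P →* alternatingGroup (Fin n)) (hf : Function.Surjective f) (hk : f.ker = V)
    (habs : ∀ (Λ : Type u) [CommGroup Λ] [Finite Λ] (ρ : alternatingGroup (Fin n) →* MulAut Λ),
      (∀ x : Λ, x ≠ 1 → ∃ T : Subgroup (Perm (Fin n)), (∀ g : alternatingGroup (Fin n), (g : Perm (Fin n)) ∈ T ↔ ρ g x = x) ∧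
        T < alternatingGroup (Fin n) ∧ Nat.card (alternatingGroup (Fin n)) < Nat.card T * Nat.card (ConjClasses T)) →
      ∀ x : Λ, x = 1) : V = ⊥ := by
  classical
  let _ : CommGroup V := { (inferInstance : Group V) with
    mul_comm := fun a b => Subtype.ext (hab a a.2 b b.2) }
  have hcard : Nat.card (V →* ℂˣ) = Nat.card V := CommGroup.card_monoidHom_of_hasEnoughRootsOfUnity V ℂ
  have hfin : Finite (V →* ℂˣ) := Nat.finite_of_card_ne_zero (by rw [hcard]; exact Nat.card_pos.ne')
  have hidx : V.index = Nat.card (alternatingGroup (Fin n)) := by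
    rw [← hk, Subgroup.index_ker, MonoidHom.range_eq_top.2 hf, Nat.card_congr Subgroup.topEquiv.toEquiv]
  -- the action factors through `f`
  have hker : f.ker ≤ (dual V).ker := by
    intro a ha
    rw [hk] at ha
    rw [MonoidHom.mem_ker]
    apply MulEquiv.ext
    intro l
    show dual V a l = l
    rw [dual_eq_iff]
    intro v
    congr 1
    apply Subtype.ext
    show a * (v : P) * a⁻¹ = v
    rw [hab a ha v v.2, mul_inv_cancel_right]
  obtain ⟨ρ, hρ⟩ : ∃ ρ : alternatingGroup (Fin n) →* MulAut (V →* ℂˣ), ∀ g, ρ (f g) = dual V g := by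
    refine ⟨f.liftOfSurjective hf ⟨dual V, hker⟩, fun g => ?_⟩
    exact f.liftOfRightInverse_comp_apply _ _ ⟨dual V, hker⟩ g
  have key := habs (V →* ℂˣ) ρ ?_
  · have h1 : Nat.card (V →* ℂˣ) = 1 := by
      rw [Nat.card_eq_one_iff_unique]
      exact ⟨⟨fun a b => by rw [key a, key b]⟩, ⟨1⟩⟩
    rw [hcard] at h1
    exact Subgroup.eq_bot_of_card_eq V h1
  · intro l hl
    -- the inertia group
    let T : Subgroup P :=
      { carrier := {g | dual V g l = l}
        one_mem' := by
          show dual V 1 l = l
          rw [map_one]; rfl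
        mul_mem' := by
          intro a b ha hb
          show dual V (a * b) l = l
          rw [map_mul, MulAut.mul_apply, show dual V b l = l from hb, show dual V a l = l from ha]
        inv_mem' := by
          intro a ha
          show dual V a⁻¹ l = l
          have h1 : dual V a l = l := ha
          conv_lhs => rw [← h1]
          rw [← MulAut.mul_apply, ← map_mul, inv_mul_cancel, map_one]; rfl }
    have hT : ∀ g, g ∈ T ↔ dual V g l = l := fun g => Iff.rfl
    have hT' : ∀ g, g ∈ T ↔ ∀ v, l (MulAut.conjNormal g v) = l v := fun g => (hT g).trans (dual_eq_iff V g l)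
    have hVT : V ≤ T := by
      intro a ha
      rw [← hk] at ha
      rw [hT, MonoidHom.mem_ker.1 (hker ha)]
      rfl
    have hTtop : T ≠ ⊤ := by
      intro h
      apply hl
      have h1 : V ≤ l.ker.map V.subtype := by
        conv_lhs => rw [← hVP]
        rw [Subgroup.commutator_le]
        intro a ha g _
        have h2 : g ∈ T := by rw [h]; trivial
        have h3 := (hT' g).1 h2 ⟨a, ha⟩
        refine ⟨⟨a, ha⟩ * (MulAut.conjNormal g ⟨a, ha⟩)⁻¹, ?_, ?_⟩
        · show l _ = 1
          rw [map_mul, map_inv, h3, mul_inv_cancel]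
        · show a * (g * a * g⁻¹)⁻¹ = a * g * a⁻¹ * g⁻¹
          group
      ext v
      obtain ⟨w, hw, hwv⟩ := h1 v.2
      have h2 : w = v := Subtype.ext hwv
      rw [← h2]
      exact congrArg Units.val hw
    have hnc := nc_zero V l T hT' hVT (by rw [hidx]; exact hB)
    -- the image in `A_n`
    let F : T →* Perm (Fin n) := (alternatingGroup (Fin n)).subtype.comp (f.comp T.subtype)
    have hF : ∀ t : T, F t = (f (t : P) : Perm (Fin n)) := fun _ => rfl
    have hFk : F.ker = V.subgroupOf T := by
      ext t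
      rw [MonoidHom.mem_ker, hF, OneMemClass.coe_eq_one, ← MonoidHom.mem_ker, hk]
      rfl
    have hmem : ∀ g : alternatingGroup (Fin n), (g : Perm (Fin n)) ∈ F.range ↔ ρ g l = l := by
      intro g
      obtain ⟨x, rfl⟩ := hf g
      rw [hρ, ← hT]
      constructor
      · rintro ⟨t, ht⟩
        rw [hF] at ht
        have h1 : f (t : P) = f x := Subtype.ext ht
        have h2 : (t : P)⁻¹ * x ∈ V := by
          rw [← hk, MonoidHom.mem_ker, map_mul, map_inv, h1, inv_mul_cancel]
        have h3 : x = t * ((t : P)⁻¹ * x) := by group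
        rw [h3]
        exact mul_mem t.2 (hVT h2)
      · intro hx
        exact ⟨⟨x, hx⟩, rfl⟩
    have hle : F.range ≤ alternatingGroup (Fin n) := by
      rintro _ ⟨t, rfl⟩
      exact (f (t : P)).2
    let e1 : T ⧸ V.subgroupOf T ≃* F.range :=
      (QuotientGroup.quotientMulEquivOfEq hFk.symm).trans (QuotientGroup.quotientKerEquivRange F)
    have hc1 : Nat.card F.range = V.relIndex T := by
      rw [← Nat.card_congr e1.toEquiv]
      rfl
    have hc2 : V.relIndex T * T.index = Nat.card (alternatingGroup (Fin n)) := by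
      rw [Subgroup.relIndex_mul_index hVT, hidx]
    have hpos : 0 < V.relIndex T := by
      rw [← hc1]; exact Nat.card_pos
    refine ⟨F.range, hmem, lt_of_le_of_ne hle ?_, ?_⟩
    · intro h
      apply hTtop
      rw [← Subgroup.index_eq_one]
      rw [h] at hc1
      rw [← hc2] at hc1
      have h4 : V.relIndex T * T.index = V.relIndex T * 1 := by rw [hc1, mul_one]
      exact Nat.eq_of_mul_eq_mul_left hpos h4
    · rw [← card_conj_congr e1, hc1, ← hc2]
      exact Nat.mul_lt_mul_of_pos_left hnc hpos

end Cfsg.Agent.H211.Hup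
end

private theorem dce_805ee2eb9e69 : _root_.True := by
  try have : _root_.True := by simp only [_root_.Cfsg.Agent.Characters.Core.irrBasis.congr_simp]
  exact _root_.True.intro
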